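import Groth.Agent.EtFppfProperLib.Vanish
import Groth.Agent.EtProperH0Lib.Main

/-!
# Proper direct images of torsion sheaves commute with the pullback to the big fppf site
-/

set_option autoImplicit false
set_option linter.unusedSectionVars false
set_option linter.style.haveILetI false
set_option backward.isDefEq.respectTransparency false
set_option backward.isDefEq.respectTransparency.types false
set_option maxHeartbeats 1000000
set_option synthInstance.maxHeartbeats 400000

universe w' w v v' u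

open CategoryTheory CategoryTheory.Limits AlgebraicGeometry Opposite Groth.Agent

noncomputable section

namespace EtFppfProperLib

section Shift

variable {C : Type v} [Category.{w} C] [Abelian C] [HasInjectiveResolutions C]
  {D : Type v'} [Category.{w'} D] [Abelian D] (F : C ⥤ D) [F.Additive]

/-- Dimension shifting in degrees at least two. -/
theorem nonempty_shift {S : ShortComplex C} (hS : S.ShortExact) (n : ℕ)
    (h₀ : IsZero ((F.rightDerived n).obj S.X₂)) (h₁ : IsZero ((F.rightDerived (n + 1)).obj S.X₂)) :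
    Nonempty ((F.rightDerived n).obj S.X₃ ≅ (F.rightDerived (n + 1)).obj S.X₁) := by
  let Δ := RDerLib.derivedLES F
  haveI : Mono (Δ.δ S hS n (n + 1) rfl) := (Δ.exact₃ S hS n (n + 1) rfl).mono_g (h₀.eq_of_src _ _)
  haveI : Epi (Δ.δ S hS n (n + 1) rfl) := (Δ.exact₁ S hS n (n + 1) rfl).epi_f (h₁.eq_of_tgt _ _)
  haveI : IsIso (Δ.δ S hS n (n + 1) rfl) := isIso_of_mono_of_epi _
  exact ⟨asIso (Δ.δ S hS n (n + 1) rfl)⟩

/-- Dimension shifting in degree one. -/
theorem nonempty_shift_one [PreservesFiniteLimits F] {S : ShortComplex C} (hS : S.ShortExact)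
    (h₁ : IsZero ((F.rightDerived 1).obj S.X₂)) :
    Nonempty ((F.rightDerived 1).obj S.X₁ ≅ cokernel (F.map S.g)) := by
  let Δ := RDerLib.derivedLES F
  haveI : Epi (Δ.δ S hS 0 1 rfl) := (Δ.exact₁ S hS 0 1 rfl).epi_f (h₁.eq_of_tgt _ _)
  exact ⟨((Δ.exact₃ S hS 0 1 rfl).gIsCokernel.coconePointUniqueUpToIso (cokernelIsCokernel _)) ≪≫
    cokernel.mapIso ((F.rightDerived 0).map S.g) (F.map S.g) (F.rightDerivedZeroIsoSelf.app _)
      (F.rightDerivedZeroIsoSelf.app _) (F.rightDerivedZeroIsoSelf.hom.naturality S.g)⟩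

end Shift

open EtDescentLib (piFppf aPullIso)

variable {X Y : Scheme.{u}} (f : X ⟶ Y)

/-- The comparison in degree zero. -/
def α₀ [IsProper f] (G : EtCoh.Ab X) :
    (piFppf Y).obj ((EtCoh.push f).obj G) ≅ (EtFppf.pushBig f).obj ((piFppf X).obj G) :=
  haveI := EtProperH0Lib.isIso_phi EtProperH0Lib.hasGerms_ab f G
  (fullyFaithfulSheafToPresheaf _ _).preimageIso
    ((sheafToPresheaf (QuotSh.J Scheme.etalePrecoverage Y) _).mapIso
      (asIso (EtProperH0Lib.phi (A := AddCommGrpCat.{u + 1}) f G)))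

theorem α₀_naturality [IsProper f] {G G' : EtCoh.Ab X} (g : G ⟶ G') :
    (piFppf Y).map ((EtCoh.push f).map g) ≫ (α₀ f G').hom =
      (α₀ f G).hom ≫ (EtFppf.pushBig f).map ((piFppf X).map g) := by
  have h := congrArg (sheafToPresheaf _ _).map (EtProperH0Lib.phi_naturality (A := AddCommGrpCat.{u + 1}) f g)
  exact ObjectProperty.hom_ext _ h

/-- The comparison in degree zero, naturally. -/
def α [IsProper f] [EtFppf.ACont X] [EtFppf.ACont Y] :
    EtCoh.push f ⋙ EtFppf.aPull Y ≅ EtFppf.aPull X ⋙ EtFppf.pushBig f :=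
  Functor.isoWhiskerLeft _ (aPullIso Y) ≪≫
    NatIso.ofComponents (F := EtCoh.push f ⋙ piFppf Y) (G := piFppf X ⋙ EtFppf.pushBig f) (α₀ f)
      (fun g => α₀_naturality f g) ≪≫
    Functor.isoWhiskerRight (aPullIso X).symm _

theorem nonempty_aPull_Rpush [IsProper f] [EtFppf.ACont X] [EtFppf.ACont Y] :
    ∀ (i : ℕ) (F : EtCoh.Ab X), EtCoh.IsTorsion F →
      Nonempty ((EtFppf.aPull Y).obj ((EtCoh.Rpush f i).obj F) ≅
        (EtFppf.RpushBig f i).obj ((EtFppf.aPull X).obj F)) := by
  haveI : RepresentablyFlat (EtFppf.a X) := EtDescentLib.flat_a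
  haveI : RepresentablyFlat (EtFppf.a Y) := EtDescentLib.flat_a
  haveI : PreservesFiniteLimits (EtFppf.aPull X) := EpsLib.sheafPullback_preservesFiniteLimits _ _ _
  haveI : (EtFppf.aPull X).IsLeftAdjoint := (EtFppf.aAdj X).isLeftAdjoint
  haveI : (EtFppf.aPull Y).IsLeftAdjoint := (EtFppf.aAdj Y).isLeftAdjoint
  haveI : (EtFppf.aPull X).Additive := (EtFppf.aAdj X).left_adjoint_additive
  haveI : (EtFppf.aPull Y).Additive := (EtFppf.aAdj Y).left_adjoint_additive
  haveI : PreservesColimitsOfSize.{0, 0} (EtFppf.aPull X) := (EtFppf.aAdj X).leftAdjoint_preservesColimits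
  haveI : PreservesFiniteColimits (EtFppf.aPull X) := PreservesColimitsOfSize.preservesFiniteColimits.{0, 0} _
  haveI := preservesFiniteLimits_pushBigF f
  haveI : PreservesLimitsOfSize.{0, 0} (EtCoh.push f) := (EtCoh.pullPushAdj f).rightAdjoint_preservesLimits
  haveI : PreservesFiniteLimits (EtCoh.push f) := PreservesLimitsOfSize.preservesFiniteLimits _
  intro i
  induction i with
  | zero =>
    intro F _
    exact ⟨(EtFppf.aPull Y).mapIso ((EtCoh.push f).rightDerivedZeroIsoSelf.app F) ≪≫ (α f).app F ≪≫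
      ((EtFppf.pushBig f).rightDerivedZeroIsoSelf.app _).symm⟩
  | succ i ih =>
    intro F hF
    obtain ⟨I, hI, j, hj⟩ := exists_mono_torPart hF
    haveI := hj
    let S : ShortComplex (EtCoh.Ab X) := ShortComplex.mk j (cokernel.π j) (cokernel.condition j)
    have hS : S.ShortExact := { exact := ShortComplex.exact_of_g_is_cokernel _ (cokernelIsCokernel _) }
    have hT : EtCoh.IsTorsion S.X₂ := isTorsion_torPart I
    have hT₀ : ∀ q, IsZero ((EtCoh.Rpush f (q + 1)).obj S.X₂) := fun q =>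
      isZero_Rpush_torPart f I (q + 1) q.succ_pos
    have hB : ∀ q, IsZero ((EtFppf.RpushBig f (q + 1)).obj ((EtFppf.aPull X).obj S.X₂)) := fun q =>
      isZero_RpushBig_of_good f q _ (good_aPull f _ hT hT₀)
    have hS' : (S.map (EtFppf.aPull X)).ShortExact := hS.map_of_exact _
    rcases i with _ | n
    · obtain ⟨a⟩ := nonempty_shift_one (EtCoh.push f) hS (hT₀ 0)
      obtain ⟨b⟩ := nonempty_shift_one (EtFppf.pushBig f) hS' (hB 0)
      exact ⟨(EtFppf.aPull Y).mapIso a ≪≫ PreservesCokernel.iso (EtFppf.aPull Y) ((EtCoh.push f).map S.g) ≪≫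
        cokernel.mapIso _ ((EtFppf.pushBig f).map ((EtFppf.aPull X).map S.g)) ((α f).app S.X₂) ((α f).app S.X₃)
          ((α f).hom.naturality S.g) ≪≫ b.symm⟩
    · obtain ⟨a⟩ := nonempty_shift (EtCoh.push f) hS (n + 1) (hT₀ n) (hT₀ (n + 1))
      obtain ⟨b⟩ := nonempty_shift (EtFppf.pushBig f) hS' (n + 1) (hB n) (hB (n + 1))
      obtain ⟨c⟩ := ih S.X₃ (isTorsion_of_epi (cokernel.π j) hT)
      exact ⟨(EtFppf.aPull Y).mapIso a.symm ≪≫ c ≪≫ b⟩

end EtFppfProperLib

end
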