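import Groth.Agent.EtPBCProperLib.Effacement
import Groth.Agent.EtShLib.TorsionColim
import Groth.Agent.EtCompLib.Sections

/-!
# The torsion part of an injective sheaf is acyclic for quasi-compact quasi-separated morphisms
-/

set_option autoImplicit false
set_option linter.unusedSectionVars false
set_option linter.style.haveILetI false
set_option backward.isDefEq.respectTransparency false
set_option backward.isDefEq.respectTransparency.types false
set_option maxHeartbeats 1000000
set_option synthInstance.maxHeartbeats 400000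

universe u

open CategoryTheory CategoryTheory.Limits CategoryTheory.Abelian AlgebraicGeometry Opposite
open Groth.Agent Groth.Agent.EtShLib DescSecLib EtSliceLib EtAcycLib

noncomputable section

namespace EtFppfProperLib

open EtPBCProperLib (nTor)

variable {X Y : Scheme.{u}}

/-- Inclusion of the torsion subsheaves. -/
def torMap (I : EtCoh.Ab X) {a b : ℕ} (h : a ∣ b) : nTor I a ⟶ nTor I b :=
  kernel.lift _ (kernel.ι _) (by
    obtain ⟨c, rfl⟩ := h
    have h0 := kernel.condition (a • 𝟙 I)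
    rw [Preadditive.comp_nsmul, Category.comp_id] at h0
    rw [Preadditive.comp_nsmul, Category.comp_id, mul_nsmul, h0, nsmul_zero])

@[reassoc (attr := simp)]
theorem torMap_ι (I : EtCoh.Ab X) {a b : ℕ} (h : a ∣ b) :
    torMap I h ≫ kernel.ι (b • 𝟙 I) = kernel.ι (a • 𝟙 I) := kernel.lift_ι _ _ _

/-- The torsion subsheaves, indexed by factorials. -/
def torDiagNat (I : EtCoh.Ab X) : ℕ ⥤ EtCoh.Ab X where
  obj k := nTor I k.factorial
  map {a b} h := torMap I (Nat.factorial_dvd_factorial (leOfHom h))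
  map_id k := by rw [← cancel_mono (kernel.ι _), torMap_ι, Category.id_comp]
  map_comp f g := by rw [← cancel_mono (kernel.ι _), torMap_ι, Category.assoc, torMap_ι, torMap_ι]

/-- The index category. -/
abbrev Idx : Type (u + 1) := AsSmall.{u + 1} ℕ

instance : IsFiltered Idx.{u} := IsFiltered.of_equivalence AsSmall.equiv

/-- The torsion subsheaves on a small index category. -/
def torDiag (I : EtCoh.Ab X) : Idx.{u} ⥤ EtCoh.Ab X := AsSmall.down ⋙ torDiagNat I

/-- The torsion part. -/
abbrev torPart (I : EtCoh.Ab X) : EtCoh.Ab X := colimit (torDiag I)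

/-- The canonical map from the torsion part. -/
def torι (I : EtCoh.Ab X) : torPart I ⟶ I :=
  colimit.desc (torDiag I) ⟨I, { app := fun k => kernel.ι _
                                 naturality := fun a b f => by
                                   exact (torMap_ι I (Nat.factorial_dvd_factorial (leOfHom (AsSmall.down.map f)))).trans (Category.comp_id _).symm }⟩

theorem ι_torι (I : EtCoh.Ab X) (k : Idx.{u}) : colimit.ι (torDiag I) k ≫ torι I = kernel.ι _ :=
  colimit.ι_desc _ _

theorem lift_ι_eq (I : EtCoh.Ab X) {G : EtCoh.Ab X} {j j' : Idx.{u}} (l : G ⟶ (torDiag I).obj j)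
    (l' : G ⟶ (torDiag I).obj j') (h : l ≫ kernel.ι _ = l' ≫ kernel.ι _) :
    l ≫ colimit.ι (torDiag I) j = l' ≫ colimit.ι (torDiag I) j' := by
  obtain ⟨k, a, b, -⟩ := IsFilteredOrEmpty.cocone_objs j j'
  rw [← colimit.w (torDiag I) a, ← colimit.w (torDiag I) b, ← Category.assoc, ← Category.assoc]
  congr 1
  have ha : (torDiag I).map a ≫ kernel.ι _ = kernel.ι _ := torMap_ι I (Nat.factorial_dvd_factorial (leOfHom (AsSmall.down.map a)))
  have hb : (torDiag I).map b ≫ kernel.ι _ = kernel.ι _ := torMap_ι I (Nat.factorial_dvd_factorial (leOfHom (AsSmall.down.map b)))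
  rw [← cancel_mono (kernel.ι _), Category.assoc, Category.assoc]
  exact (congrArg (l ≫ ·) ha).trans (h.trans (congrArg (l' ≫ ·) hb).symm)

theorem isTorsion_torPart (I : EtCoh.Ab X) : EtCoh.IsTorsion (torPart I) := by
  refine CdCurveLib.isTorsion_of_torsionBy fun Ω _ _ ξ p => ?_
  let S := stk (A := AddCommGrpCat.{u + 1}) ξ
  obtain ⟨k, z, rfl⟩ := Concrete.isColimit_exists_rep (torDiag I ⋙ S)
    (isColimitOfPreserves S (colimit.isColimit (torDiag I))) p
  obtain ⟨m, hm, he⟩ := torsionBy_of_isTorsion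
    (EtPBCProperLib.isTorsion_of_nsmul (Nat.factorial_pos (AsSmall.down.obj k)) (EtPBCProperLib.nsmul_nTor I _))
    Ω ξ z
  refine ⟨m, hm, ?_⟩
  exact (map_nsmul (S.map (colimit.ι (torDiag I) k)).hom m z).symm.trans ((congrArg _ he).trans (map_zero (S.map (colimit.ι (torDiag I) k)).hom))

theorem isTorsion_of_epi {F G : EtCoh.Ab X} (π : F ⟶ G) [Epi π] (hF : EtCoh.IsTorsion F) : EtCoh.IsTorsion G := by
  refine CdCurveLib.isTorsion_of_torsionBy fun Ω _ _ ξ p => ?_
  haveI : Epi ((stk (A := AddCommGrpCat.{u + 1}) ξ).map π) := inferInstance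
  obtain ⟨q, rfl⟩ := (AddCommGrpCat.epi_iff_surjective _).1 ‹_› p
  obtain ⟨m, hm, he⟩ := torsionBy_of_isTorsion hF Ω ξ q
  exact ⟨m, hm, by rw [← map_nsmul, he, map_zero]⟩

theorem stk_exact {A B C : EtCoh.Ab X} (f : A ⟶ B) (g : B ⟶ C) (w : f ≫ g = 0)
    (h : (ShortComplex.mk f g w).Exact) {Ω : Type u} [Field Ω] [IsSepClosed Ω] (ξ : Spec (CommRingCat.of Ω) ⟶ X)
    (p : (stk (A := AddCommGrpCat.{u + 1}) ξ).obj B) (hp : (stk (A := AddCommGrpCat.{u + 1}) ξ).map g p = 0) :
    ∃ q, (stk (A := AddCommGrpCat.{u + 1}) ξ).map f q = p :=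
  (ShortComplex.ab_exact_iff _).1 (h.map (stk (A := AddCommGrpCat.{u + 1}) ξ)) p hp

theorem nsmul_stk {F : EtCoh.Ab X} (n : ℕ) {Ω : Type u} [Field Ω] [IsSepClosed Ω]
    (ξ : Spec (CommRingCat.of Ω) ⟶ X) (p : (stk (A := AddCommGrpCat.{u + 1}) ξ).obj F) :
    (stk (A := AddCommGrpCat.{u + 1}) ξ).map (n • 𝟙 F) p = n • p := by
  let S := stk (A := AddCommGrpCat.{u + 1}) ξ
  haveI : S.Additive := Functor.additive_of_preserves_binary_products S
  rw [Functor.map_nsmul, CategoryTheory.Functor.map_id]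
  rw [← AddCommGrpCat.homAddEquiv_apply, map_nsmul, AddMonoidHom.nsmul_apply]
  rfl

theorem eq_zero_of_stalks {F G : EtCoh.Ab X} (φ : F ⟶ G)
    (h : ∀ (Ω : Type u) [Field Ω] [IsSepClosed Ω] (ξ : Spec (CommRingCat.of Ω) ⟶ X)
      (p : (stk (A := AddCommGrpCat.{u + 1}) ξ).obj F), (stk (A := AddCommGrpCat.{u + 1}) ξ).map φ p = 0) :
    φ = 0 := by
  haveI : Epi (kernel.ι φ) := epi_of_stalks _ fun Ω _ _ ξ => isZero_stalk_coker_of_epi _ ξ fun p =>
    stk_exact _ _ (kernel.condition φ) (ShortComplex.exact_of_f_is_kernel _ (kernelIsKernel φ)) ξ p (h Ω ξ p)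
  rw [← cancel_epi (kernel.ι φ), kernel.condition, comp_zero]

instance mono_torι (I : EtCoh.Ab X) : Mono (torι I) := by
  refine Preadditive.mono_of_kernel_zero ?_
  refine eq_zero_of_stalks _ fun Ω _ _ ξ x => ?_
  let S := stk (A := AddCommGrpCat.{u + 1}) ξ
  obtain ⟨k, z, hz⟩ := Concrete.isColimit_exists_rep (torDiag I ⋙ S)
    (isColimitOfPreserves S (colimit.isColimit (torDiag I))) (S.map (kernel.ι (torι I)) x)
  have hz' : S.map (colimit.ι (torDiag I) k) z = S.map (kernel.ι (torι I)) x := hz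
  have h0 : S.map (kernel.ι ((AsSmall.down.obj k).factorial • 𝟙 I)) z = 0 := by
    rw [← ι_torι I k, Functor.map_comp]
    show S.map (torι I) (S.map (colimit.ι (torDiag I) k) z) = 0
    rw [hz', ← ConcreteCategory.comp_apply, ← Functor.map_comp, kernel.condition]
    rw [Functor.map_zero]
    rfl
  have hz0 : z = 0 := (AddCommGrpCat.mono_iff_injective (S.map (kernel.ι ((AsSmall.down.obj k).factorial • 𝟙 I)))).1
    inferInstance (h0.trans (map_zero (S.map (kernel.ι ((AsSmall.down.obj k).factorial • 𝟙 I))).hom).symm)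
  rw [← hz', hz0]
  exact map_zero (S.map (colimit.ι (torDiag I) k)).hom

theorem exists_fac_torPart {F : EtCoh.Ab X} (hF : EtCoh.IsTorsion F) (I : EtCoh.Ab X) (i : F ⟶ I) :
    ∃ m : F ⟶ torPart I, m ≫ torι I = i := by
  suffices h : i ≫ cokernel.π (torι I) = 0 from ⟨Abelian.monoLift (torι I) i h, Abelian.monoLift_comp _ _ _⟩
  refine eq_zero_of_stalks _ fun Ω _ _ ξ p => ?_
  let S := stk (A := AddCommGrpCat.{u + 1}) ξ
  obtain ⟨m, hm, hp⟩ := torsionBy_of_isTorsion hF Ω ξ p
  obtain ⟨c, hc⟩ := Nat.dvd_factorial hm le_rfl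
  have h1 : S.map (m.factorial • 𝟙 I) (S.map i p) = 0 := by
    rw [nsmul_stk, hc, mul_nsmul, ← map_nsmul, show m • p = 0 from hp, map_zero, nsmul_zero]
  obtain ⟨y, hy⟩ := stk_exact _ _ (kernel.condition (m.factorial • 𝟙 I))
    (ShortComplex.exact_of_f_is_kernel _ (kernelIsKernel _)) ξ _ h1
  have h2 : kernel.ι (m.factorial • 𝟙 I) ≫ cokernel.π (torι I) = 0 := by
    rw [← show colimit.ι (torDiag I) (AsSmall.up.obj m) ≫ torι I = kernel.ι (m.factorial • 𝟙 I) from ι_torι I _,
      Category.assoc, cokernel.condition, comp_zero]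
  rw [Functor.map_comp]
  show S.map (cokernel.π (torι I)) (S.map i p) = 0
  rw [← hy, ← ConcreteCategory.comp_apply, ← Functor.map_comp, h2]
  rw [Functor.map_zero]
  rfl

/-- A torsion sheaf embeds in the torsion part of an injective. -/
theorem exists_mono_torPart {F : EtCoh.Ab X} (hF : EtCoh.IsTorsion F) :
    ∃ (I : EtCoh.Ab X) (_ : Injective I) (m : F ⟶ torPart I), Mono m := by
  let ip := (EnoughInjectives.presentation F).some
  obtain ⟨m, hm⟩ := exists_fac_torPart hF ip.J ip.f
  exact ⟨ip.J, ip.injective, m, mono_of_mono_fac hm⟩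

theorem subsingleton_ext_free_torPart (I : EtCoh.Ab X) [Injective I] (U : X.Etale) [CompactSpace U.left]
    [QuasiSeparatedSpace U.left] (q : ℕ) (hq : 0 < q) :
    Subsingleton (Ext.{u + 1} (free U) (torPart I) q) := by
  haveI := EtCompLib.preservesFiltered_ext_free (U := U) ⟨‹CompactSpace U.left›, ‹QuasiSeparatedSpace U.left›⟩ q
    Idx.{u}
  let E := Abelian.extFunctorObj.{u + 1} (free U) q
  refine subsingleton_of_forall_eq 0 fun x => ?_
  obtain ⟨k, z, hz⟩ := Concrete.isColimit_exists_rep (torDiag I ⋙ E)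
    (isColimitOfPreserves E (colimit.isColimit (torDiag I))) x
  haveI := EtPBCProperLib.subsingleton_ext_free_nTor I (n := (AsSmall.down.obj k).factorial)
    (Nat.factorial_pos _) U q hq
  rw [← hz, show z = (0 : Ext.{u + 1} (free U) (nTor I (AsSmall.down.obj k).factorial) q) from
    Subsingleton.elim (α := Ext.{u + 1} (free U) (nTor I (AsSmall.down.obj k).factorial) q) _ _]
  exact map_zero _

/-- The torsion part of an injective sheaf is acyclic for direct images. -/
theorem isZero_Rpush_torPart (g : X ⟶ Y) [QuasiCompact g] [QuasiSeparated g] (I : EtCoh.Ab X) [Injective I]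
    (q : ℕ) (hq : 0 < q) : IsZero ((EtCoh.Rpush g q).obj (torPart I)) := by
  obtain ⟨j, rfl⟩ : ∃ j, q = j + 1 := ⟨q - 1, by omega⟩
  refine EtAcycLib.isZero_Rpush_of_killed g j _ fun W y w => ?_
  obtain ⟨O, hO, hwO, -⟩ := exists_isAffineOpen_mem_and_subset (X := W.left) (x := w) (U := ⊤) trivial
  haveI : Etale W.hom := W.prop
  let W' : Y.Etale := Scheme.Etale.mk (O.ι ≫ W.hom)
  let φ : W' ⟶ W := MorphismProperty.Over.homMk O.ι rfl trivial
  refine ⟨W', φ, ⟨⟨w, hwO⟩, rfl⟩, ?_⟩
  haveI : IsAffine W'.left := hO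
  haveI : CompactSpace ↥((𝟭 Scheme).obj W'.left) := inferInstanceAs (CompactSpace ↥W'.left)
  haveI : QuasiSeparatedSpace ↥((𝟭 Scheme).obj W'.left) := inferInstanceAs (QuasiSeparatedSpace ↥W'.left)
  haveI : QuasiCompact (pullback.fst W'.hom g) := MorphismProperty.pullback_fst _ _ ‹QuasiCompact g›
  haveI : QuasiSeparated (pullback.fst W'.hom g) := MorphismProperty.pullback_fst _ _ ‹QuasiSeparated g›
  haveI : CompactSpace ((EtCoh.bc g).obj W').left :=
    QuasiCompact.compactSpace_of_compactSpace (pullback.fst W'.hom g)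
  haveI : QuasiSeparatedSpace ((EtCoh.bc g).obj W').left :=
    quasiSeparatedSpace_of_quasiSeparated (pullback.fst W'.hom g)
  haveI := subsingleton_ext_free_torPart I ((EtCoh.bc g).obj W') (j + 1) (by omega)
  exact Subsingleton.elim (α := Ext.{u + 1} (free ((EtCoh.bc g).obj W')) (torPart I) (j + 1)) _ _

end EtFppfProperLib

end
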