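import Groth.Agent.EtFppfProperLib.Torsion
import Groth.Agent.EtFppfLib.Finite
import Groth.Agent.EtPBCProperLib.Main

/-!
# Higher direct images on the big fppf sites along proper morphisms
-/

set_option autoImplicit false
set_option linter.unusedSectionVars false
set_option linter.style.haveILetI false
set_option backward.isDefEq.respectTransparency false
set_option backward.isDefEq.respectTransparency.types false
set_option maxHeartbeats 1000000
set_option synthInstance.maxHeartbeats 400000

universe u

open CategoryTheory CategoryTheory.Limits AlgebraicGeometry Opposite Groth.Agent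

attribute [local instance] EtSliceLib.pullExact

noncomputable section

namespace EtFppfProperLib

open EtDescentLib (fppfIncl piFppf aPullIso)
open EtFppfLib (Acy)

variable {X Y : Scheme.{u}}

/-- Sheafification for the fppf topology, on big étale sheaves. -/
def fppfShf (X : Scheme.{u}) : BigSite.Ab Scheme.etalePrecoverage X ⥤ EtFppf.AbF X :=
  sheafToPresheaf _ _ ⋙ presheafToSheaf (EtFppf.J X) AddCommGrpCat.{u + 1}

/-- Sheafification is left adjoint to the inclusion. -/
def fppfAdj (X : Scheme.{u}) : fppfShf X ⊣ fppfIncl X :=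
  (sheafificationAdjunction (EtFppf.J X) AddCommGrpCat.{u + 1}).restrictFullyFaithful
    (iC := sheafToPresheaf (QuotSh.J Scheme.etalePrecoverage X) AddCommGrpCat.{u + 1}) (iD := 𝟭 (EtFppf.AbF X))
    (fullyFaithfulSheafToPresheaf _ _) (Functor.FullyFaithful.id _) (Iso.refl _) (Iso.refl _)

theorem preservesFiniteLimits_fppfIncl (X : Scheme.{u}) : PreservesFiniteLimits (fppfIncl X) := by
  haveI : PreservesLimitsOfSize.{0, 0} (fppfIncl X) := (fppfAdj X).rightAdjoint_preservesLimits
  exact PreservesLimitsOfSize.preservesFiniteLimits _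

theorem preservesInjective_fppfIncl (X : Scheme.{u}) : (fppfIncl X).PreservesInjectiveObjects := by
  haveI : PreservesFiniteLimits (fppfShf X) := comp_preservesFiniteLimits _ _
  exact Functor.preservesInjectiveObjects_of_adjunction_of_preservesMonomorphisms (fppfAdj X)

/-- Restriction of an fppf sheaf to the small étale site of a scheme over the base. -/
abbrev resW {T : Scheme.{u}} (m : T ⟶ X) : EtFppf.AbF X ⥤ EtCoh.Ab T :=
  fppfIncl X ⋙ BigSite.resEtAlong Scheme.etalePrecoverage m

instance {T : Scheme.{u}} (m : T ⟶ X) : (resW m).Additive where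

theorem preservesFiniteLimits_resW {T : Scheme.{u}} (m : T ⟶ X) : PreservesFiniteLimits (resW m) := by
  haveI := preservesFiniteLimits_fppfIncl X
  haveI := BigEtLib.preservesHomology_resEtAlong m
  haveI := (BigSite.resEtAlong Scheme.etalePrecoverage m).preservesFiniteLimits_of_preservesHomology
  exact comp_preservesFiniteLimits _ _

theorem injective_resW {T : Scheme.{u}} (m : T ⟶ X) (I : EtFppf.AbF X) [Injective I] :
    Injective ((resW m).obj I) := by
  haveI := preservesInjective_fppfIncl X
  haveI := BigEtLib.preservesInjective_resEtAlong m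
  haveI : Injective ((fppfIncl X).obj I) := Functor.injective_obj_of_injective _ ‹_›
  exact Functor.injective_obj_of_injective _ ‹_›

theorem epi_resW_map {T : Scheme.{u}} (m : T ⟶ X) {S : ShortComplex (EtFppf.AbF X)} (hS : S.ShortExact)
    (hA : Acy S.X₁) : Epi ((resW m).map S.g) := by
  refine (Sheaf.isLocallySurjective_iff_epi' (J := T.smallEtaleTopology) (A := AddCommGrpCat.{u + 1}) _).1
    ⟨fun {U} s => ?_⟩
  choose E e he t hz ht using fun z =>
    EtFppfLib.exists_lift_etale hS hA ((Over.map m).obj ((EtFppf.a T).obj U)) s z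
  haveI := he
  haveI : Etale U.hom := U.prop
  let Z : U.left → T.Etale := fun z => Scheme.Etale.mk ((e z).left ≫ U.hom)
  let g : ∀ z, Z z ⟶ U := fun z => MorphismProperty.Over.homMk (e z).left rfl trivial
  refine GrothendieckTopology.superset_covering _ ?_
    ((Scheme.ofArrows_mem_smallEtaleTopology_iff g).2 (Set.eq_univ_of_forall fun z => Set.mem_iUnion.2 ⟨z, hz z⟩))
  rw [Sieve.generate_le_iff]
  rintro _ _ ⟨z⟩
  let k : (Over.map m).obj ((EtFppf.a T).obj (Z z)) ⟶ E z := Over.homMk (𝟙 _) (by
    show 𝟙 _ ≫ (E z).hom = ((e z).left ≫ U.hom) ≫ m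
    rw [Category.id_comp, Category.assoc, ← Over.w (e z)]
    rfl)
  refine ⟨S.X₂.obj.map k.op (t z), ?_⟩
  show S.g.hom.app (op _) (S.X₂.obj.map k.op (t z)) = S.X₃.obj.map ((Over.map m).map ((EtFppf.a T).map (g z))).op s
  rw [NatTrans.naturality_apply, ht z, ← Functor.map_comp_apply, ← op_comp]
  congr 2

theorem shortExact_resW {T : Scheme.{u}} (m : T ⟶ X) {S : ShortComplex (EtFppf.AbF X)} (hS : S.ShortExact)
    (hA : Acy S.X₁) : (S.map (resW m)).ShortExact :=
  haveI := preservesFiniteLimits_resW m
  RDerLib.map_shortExact (F := resW m) hS (epi_resW_map m hS hA)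

variable (f : X ⟶ Y)

/-- Acyclicity for the direct image along `f` on the big sites. -/
def Good (G : EtFppf.AbF X) : Prop :=
  Acy G ∧ ∀ {W : Scheme.{u}} (w : W ⟶ Y) (q : ℕ),
    IsZero ((EtCoh.Rpush (pullback.snd f w) (q + 1)).obj ((resW (pullback.fst f w)).obj G))

theorem Good.quotient {S : ShortComplex (EtFppf.AbF X)} (hS : S.ShortExact) [Injective S.X₂] (h : Good f S.X₁) :
    Good f S.X₃ := by
  refine ⟨Acy.quotient hS h.1, fun {W} w q => ?_⟩
  haveI : Injective (S.map (resW (pullback.fst f w))).X₂ := injective_resW (pullback.fst f w) S.X₂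
  exact RDerLib.isZero_X₃ (F := EtCoh.push (pullback.snd f w)) (shortExact_resW _ hS h.1) (q + 1) (h.2 w (q + 1))
    ((EtCoh.push (pullback.snd f w)).isZero_rightDerived_obj_injective_succ q _)

theorem exists_of_mem {T : Scheme.{u}} {U : T.Etale} {R : Sieve U} (hR : R ∈ T.smallEtaleTopology U) (z : U.left) :
    ∃ (V : T.Etale) (g : V ⟶ U), R g ∧ z ∈ Set.range g.left.base := by
  have h2 : (⋃ i : Σ V : T.Etale, {g : V ⟶ U // R g}, Set.range i.2.1.left) = Set.univ := by
    refine (Scheme.ofArrows_mem_smallEtaleTopology_iff fun i : Σ V : T.Etale, {g : V ⟶ U // R g} => i.2.1).1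
      (T.smallEtaleTopology.superset_covering (fun V g hg => ?_) hR)
    exact Sieve.ofArrows_mk _ (fun i : Σ V : T.Etale, {g : V ⟶ U // R g} => i.2.1) ⟨V, g, hg⟩
  obtain ⟨⟨V, g, hg⟩, v, hv⟩ := Set.mem_iUnion.1 (h2.ge (Set.mem_univ z))
  exact ⟨V, g, hg, v, hv⟩

theorem epi_pushBig_of_good {S : ShortComplex (EtFppf.AbF X)} (hS : S.ShortExact) (h : Good f S.X₁) :
    Epi ((EtFppf.pushBig f).map S.g) := by
  refine (Sheaf.isLocallySurjective_iff_epi' (J := EtFppf.J Y) (A := AddCommGrpCat.{u + 1}) _).1 ⟨fun {V} s => ?_⟩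
  let w := V.hom
  let m := pullback.fst f w
  let g := pullback.snd f w
  haveI : PreservesLimitsOfSize.{0, 0} (EtCoh.push g) := (EtCoh.pullPushAdj g).rightAdjoint_preservesLimits
  haveI : PreservesFiniteLimits (EtCoh.push g) := PreservesLimitsOfSize.preservesFiniteLimits _
  have h1 : Epi ((EtCoh.push g).map ((resW m).map S.g)) :=
    (RDerLib.epi_map_g_iff (F := EtCoh.push g) _).1
      (RDerLib.epi_map_g (F := EtCoh.push g) (shortExact_resW m hS h.1) 0 (h.2 w 0))
  obtain ⟨c⟩ := BigBCLib.nonempty_pushBig_resEtAlong (IsPullback.of_hasPullback f w)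
  let Φ := BigSite.pushBig Scheme.etalePrecoverage f AddCommGrpCat.{u + 1} ⋙
    BigSite.resEtAlong Scheme.etalePrecoverage w
  haveI : Epi (Φ.map ((fppfIncl X).map S.g)) :=
    (MorphismProperty.arrow_mk_iso_iff (MorphismProperty.epimorphisms _)
      (((Functor.mapArrowFunctor _ _).mapIso c).app (Arrow.mk ((fppfIncl X).map S.g)))).2 h1
  haveI : Sheaf.IsLocallySurjective (Φ.map ((fppfIncl X).map S.g)) :=
    (Sheaf.isLocallySurjective_iff_epi' (J := V.left.smallEtaleTopology) (A := AddCommGrpCat.{u + 1}) _).2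
      inferInstance
  let k₀ : (Over.map w).obj ((EtFppf.a V.left).obj (EtCoh.top V.left)) ⟶ V := Over.homMk (𝟙 _) (by
    show 𝟙 _ ≫ V.hom = 𝟙 V.left ≫ V.hom
    rfl)
  let s₀ := ((EtFppf.pushBig f).obj S.X₃).obj.map k₀.op s
  have hcov := Presheaf.imageSieve_mem V.left.smallEtaleTopology (Φ.map ((fppfIncl X).map S.g)).hom
    (U := op (EtCoh.top V.left)) s₀
  choose E e he hz using fun z => exists_of_mem hcov z
  haveI hE : ∀ z, Etale (e z).left := fun z => EtShLib.etale_left (e z)
  let Z : V.left → Over Y := fun z => (Over.map w).obj ((EtFppf.a V.left).obj (E z))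
  let π : ∀ z, Z z ⟶ V := fun z => (Over.map w).map ((EtFppf.a V.left).map (e z)) ≫ k₀
  refine GrothendieckTopology.superset_covering _ ?_
    (BigSite.J_mono BigSite.etalePrecoverage_le_fppfPrecoverage Y _ (EtDescentLib.ofArrows_mem Z π
      (fun z => by
        show Etale ((e z).left ≫ 𝟙 _)
        rw [Category.comp_id]
        exact hE z)
      fun z => by
        obtain ⟨v, hv⟩ := hz z
        exact ⟨z, v, by
          show ((e z).left ≫ 𝟙 _).base v = z
          rw [Category.comp_id]
          exact hv⟩))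
  rw [Sieve.generate_le_iff]
  rintro _ _ ⟨z⟩
  obtain ⟨t, ht⟩ := he z
  refine ⟨t, ?_⟩
  refine Eq.trans ht ?_
  show ((EtFppf.pushBig f).obj S.X₃).obj.map _ (((EtFppf.pushBig f).obj S.X₃).obj.map k₀.op s) = _
  rw [← Functor.map_comp_apply]
  rfl

theorem preservesFiniteLimits_pushBigF : PreservesFiniteLimits (EtFppf.pushBig f) :=
  haveI : PreservesLimitsOfSize.{0, 0} (EtFppf.pushBig f) :=
    (BigSite.bigAdj Scheme.fppfPrecoverage f AddCommGrpCat.{u + 1}).rightAdjoint_preservesLimits
  PreservesLimitsOfSize.preservesFiniteLimits _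

theorem isZero_RpushBig_of_good :
    ∀ (q : ℕ) (G : EtFppf.AbF X), Good f G → IsZero ((EtFppf.RpushBig f (q + 1)).obj G) := by
  haveI := preservesFiniteLimits_pushBigF f
  intro q
  induction q with
  | zero =>
    intro G hG
    let T : ShortComplex (EtFppf.AbF X) :=
      ShortComplex.mk (Injective.ι G) (cokernel.π (Injective.ι G)) (cokernel.condition _)
    have hT : T.ShortExact :=
      { exact := ShortComplex.exact_of_g_is_cokernel _ (cokernelIsCokernel _)
        mono_f := inferInstanceAs (Mono (Injective.ι G))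
        epi_g := inferInstanceAs (Epi (cokernel.π (Injective.ι G))) }
    exact RDerLib.isZero_X₁_succ (F := EtFppf.pushBig f) hT 0
      ((EtFppf.pushBig f).isZero_rightDerived_obj_injective_succ 0 (Injective.under G))
      ((RDerLib.epi_map_g_iff (F := EtFppf.pushBig f) _).2 (epi_pushBig_of_good f hT hG))
  | succ q ih =>
    intro G hG
    let T : ShortComplex (EtFppf.AbF X) :=
      ShortComplex.mk (Injective.ι G) (cokernel.π (Injective.ι G)) (cokernel.condition _)
    have hT : T.ShortExact :=
      { exact := ShortComplex.exact_of_g_is_cokernel _ (cokernelIsCokernel _)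
        mono_f := inferInstanceAs (Mono (Injective.ι G))
        epi_g := inferInstanceAs (Epi (cokernel.π (Injective.ι G))) }
    haveI : Injective T.X₂ := inferInstanceAs (Injective (Injective.under G))
    exact RDerLib.isZero_X₁_succ (F := EtFppf.pushBig f) hT (q + 1)
      ((EtFppf.pushBig f).isZero_rightDerived_obj_injective_succ (q + 1) (Injective.under G))
      ⟨fun a b _ => (ih _ (Good.quotient f hT hG)).eq_of_src a b⟩

/-- Pullbacks of torsion acyclic sheaves are acyclic for proper direct images on the big fppf sites. -/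
theorem good_aPull [IsProper f] [EtFppf.ACont X] (F : EtCoh.Ab X) (hF : EtCoh.IsTorsion F)
    (h0 : ∀ q, IsZero ((EtCoh.Rpush f (q + 1)).obj F)) : Good f ((EtFppf.aPull X).obj F) := by
  refine ⟨EtFppfLib.acy_aPull X F, fun {W} w q => ?_⟩
  let m := pullback.fst f w
  let g := pullback.snd f w
  obtain ⟨i⟩ := BigEtLib.nonempty_resEtAlong_piEtPull m
  haveI := EtPBCProperLib.isIso_bcQ w f g m (IsPullback.of_hasPullback f w) F hF (q + 1)
  have hz : IsZero ((EtCoh.Rpush g (q + 1)).obj ((EtCoh.pull m).obj F)) := by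
    haveI : (EtCoh.pull w).Additive := (EtCoh.pullPushAdj w).left_adjoint_additive
    exact (IsZero.of_iso ((EtCoh.pull w).map_isZero (h0 q))
      (asIso (EtBC.bcQ f w g m (IsPullback.of_hasPullback f w).w (q + 1) F)).symm)
  let e₁ : (resW m).obj ((piFppf X).obj F) ≅ (EtCoh.pull m).obj F :=
    (BigSite.resEtAlong Scheme.etalePrecoverage m).mapIso
      ((fullyFaithfulSheafToPresheaf _ _).preimageIso (Iso.refl _)) ≪≫ i.app F
  exact hz.of_iso ((EtCoh.Rpush g (q + 1)).mapIso ((resW m).mapIso ((aPullIso X).app F) ≪≫ e₁))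

end EtFppfProperLib

end
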